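import Mathlib.AlgebraicTopology.SimplicialObject.Basic
import Mathlib.AlgebraicTopology.DoldKan.Equivalence
import Mathlib.CategoryTheory.Functor.KanExtension.Pointwise
import Mathlib.CategoryTheory.Subobject.Limits
import Mathlib.Data.Finite.Sigma

/-!
The counit of the skeleton adjunction of a simplicial object of an abelian category.
-/

set_option autoImplicit false

universe v u

open CategoryTheory CategoryTheory.Limits Opposite SimplicialObject

namespace Groth.Agent.SkelMono

instance finite_truncated (n : ℕ) : Finite (SimplexCategory.Truncated n) :=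
  Finite.of_injective (fun x => (⟨x.obj.len, Nat.lt_succ_iff.2 x.property⟩ : Fin (n + 1))) fun x y h =>
    ObjectProperty.FullSubcategory.ext (SimplexCategory.ext (congrArg Fin.val h))

instance finite_hom (a b : SimplexCategory) : Finite (a ⟶ b) :=
  Finite.of_injective (fun f => (f.toOrderHom : Fin (a.len + 1) → Fin (b.len + 1))) fun f g h =>
    SimplexCategory.Hom.ext _ _ (DFunLike.coe_injective h)

variable {A : Type u} [Category.{v} A] [Abelian A]

noncomputable instance finCategory_costructuredArrow (n : ℕ) (Δ : SimplexCategoryᵒᵖ) :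
    FinCategory (CostructuredArrow (SimplexCategory.Truncated.inclusion n).op Δ) := by
  haveI : ∀ x : SimplexCategory.Truncated n, Finite (Δ.unop ⟶ x.obj) := fun x => finite_hom _ _
  haveI : Finite (CostructuredArrow (SimplexCategory.Truncated.inclusion n).op Δ) :=
    Finite.of_injective
      (fun g => (⟨g.left.unop, g.hom.unop⟩ :
        Σ x : SimplexCategory.Truncated n, Δ.unop ⟶ x.obj))
      fun g g' h => by
        obtain ⟨x, ⟨⟨⟩⟩, f⟩ := g
        obtain ⟨x', ⟨⟨⟩⟩, f'⟩ := g'
        obtain ⟨x⟩ := x
        obtain ⟨x'⟩ := x'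
        obtain ⟨hx, h⟩ := Sigma.mk.inj_iff.1 h
        have hx' : x = x' := hx
        subst hx'
        exact congrArg CostructuredArrow.mk (Quiver.Hom.unop_inj (eq_of_heq h))
  exact
    { fintypeObj := Fintype.ofFinite _
      fintypeHom := fun g g' => by
        haveI : Finite (g.left.unop.obj ⟶ g'.left.unop.obj) := inferInstance
        haveI : Finite (g ⟶ g') := Finite.of_injective (fun f => f.left.unop.hom) fun f f' h =>
          CostructuredArrow.hom_ext _ _ (Quiver.Hom.unop_inj (ObjectProperty.hom_ext _ h))
        exact Fintype.ofFinite _ }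

variable (n : ℕ) [∀ F : (SimplexCategory.Truncated n)ᵒᵖ ⥤ A,
  (SimplexCategory.Truncated.inclusion n).op.HasLeftKanExtension F] (U : SimplicialObject A)

/-- The skeleton. -/
noncomputable abbrev L : SimplicialObject A := (Truncated.sk n).obj ((truncation n).obj U)

/-- The counit of the skeleton adjunction. -/
noncomputable abbrev c : L n U ⟶ U := (skAdj n).counit.app U

/-- The unit in low degree. -/
noncomputable def unitAt (a : SimplexCategory) (ha : a.len ≤ n) : U.obj (op a) ⟶ (L n U).obj (op a) :=
  ((skAdj n).unit.app ((truncation n).obj U)).app (op ⟨a, ha⟩)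

theorem unitAt_c (a : SimplexCategory) (ha : a.len ≤ n) :
    unitAt n U a ha ≫ (c n U).app (op a) = 𝟙 _ :=
  congr_app ((skAdj n).right_triangle_components U) (op ⟨a, ha⟩)

theorem unitAt_natural {a b : SimplexCategory} (f : a ⟶ b) (ha : a.len ≤ n) (hb : b.len ≤ n) :
    U.map f.op ≫ unitAt n U a ha = unitAt n U b hb ≫ (L n U).map f.op :=
  ((skAdj n).unit.app ((truncation n).obj U)).naturality (SimplexCategory.Truncated.Hom.tr f ha hb).op

theorem hom_ext_gen (m : SimplexCategory) {Z : A} {h h' : (L n U).obj (op m) ⟶ Z}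
    (H : ∀ (a : SimplexCategory) (ha : a.len ≤ n) (f : m ⟶ a),
      unitAt n U a ha ≫ (L n U).map f.op ≫ h = unitAt n U a ha ≫ (L n U).map f.op ≫ h') : h = h' := by
  let η : (truncation n).obj U ⟶ (SimplexCategory.Truncated.inclusion n).op ⋙ L n U :=
    (skAdj n).unit.app ((truncation n).obj U)
  haveI : (L n U).IsLeftKanExtension η := by
    dsimp only [η, L, skAdj, Truncated.sk]
    rw [Functor.lanAdjunction_unit]
    infer_instance
  refine (Functor.isPointwiseLeftKanExtensionOfIsLeftKanExtension (L n U) η (op m)).hom_ext fun g => ?_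
  have := H g.left.unop.obj g.left.unop.property g.hom.unop
  simp only [← Category.assoc] at this
  exact this

theorem image_le_of_gen (m : SimplexCategory) (S : Subobject (U.obj (op m)))
    (H : ∀ (a : SimplexCategory), a.len ≤ n → ∀ f : m ⟶ a, imageSubobject (U.map f.op) ≤ S) :
    imageSubobject ((c n U).app (op m)) ≤ S := by
  have h0 : (c n U).app (op m) ≫ cokernel.π S.arrow = 0 := by
    refine hom_ext_gen n U m fun a ha f => ?_
    rw [comp_zero, comp_zero]
    rw [NatTrans.naturality_assoc, reassoc_of% (unitAt_c n U a ha), ← imageSubobject_arrow_comp (U.map f.op),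
      Category.assoc, ← Subobject.ofLE_arrow (H a ha f), Category.assoc, cokernel.condition, comp_zero, comp_zero]
  exact imageSubobject_le _ (Abelian.monoLift S.arrow _ h0) (Abelian.monoLift_comp _ _ h0)

theorem le_image (m : SimplexCategory) {a : SimplexCategory} (ha : a.len ≤ n) (f : m ⟶ a) :
    imageSubobject (U.map f.op) ≤ imageSubobject ((c n U).app (op m)) := by
  have h : U.map f.op = (unitAt n U a ha ≫ (L n U).map f.op) ≫ (c n U).app (op m) := by
    rw [Category.assoc, NatTrans.naturality, reassoc_of% (unitAt_c n U a ha)]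
  rw [h]
  exact imageSubobject_comp_le _ _

/-- The splitting given by the Dold-Kan correspondence. -/
noncomputable def splitting : Splitting U :=
  (AlgebraicTopology.DoldKan.Γ₀.splitting _).ofIso (Abelian.DoldKan.equivalence.unitIso.app U).symm

section

variable {U} (s : Splitting U) (m : SimplexCategory)

/-- The indices of the part of degree at most `n`. -/
abbrev Low := {B : Splitting.IndexSet (op m) // B.1.unop.len ≤ n}

/-- The summand map into the skeleton. -/
noncomputable def summandMap (B : Low n m) : s.N B.1.1.unop.len ⟶ (L n U).obj (op m) :=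
  s.ι B.1.1.unop.len ≫ unitAt n U B.1.1.unop B.2 ≫ (L n U).map B.1.e.op

theorem summandMap_c (B : Low n m) :
    summandMap n s m B ≫ (c n U).app (op m) = (s.cofan (op m)).inj B.1 := by
  rw [summandMap, Category.assoc, Category.assoc, NatTrans.naturality, reassoc_of% (unitAt_c n U B.1.1.unop B.2)]
  rfl

theorem summand_ext {Z : A} {h h' : (L n U).obj (op m) ⟶ Z}
    (H : ∀ B : Low n m, summandMap n s m B ≫ h = summandMap n s m B ≫ h') : h = h' := by
  refine hom_ext_gen n U m fun a ha f => ?_
  -- factor `f` as a surjection followed by an injection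
  have hf : f = factorThruImage f ≫ image.ι f := (image.fac f).symm
  have hl : (image f).len ≤ n := (SimplexCategory.len_le_of_mono (image.ι f)).trans ha
  suffices ∀ (l : SimplexCategory) (hl : l.len ≤ n) (e : m ⟶ l) [Epi e],
      unitAt n U l hl ≫ (L n U).map e.op ≫ h = unitAt n U l hl ≫ (L n U).map e.op ≫ h' by
    rw [hf, op_comp, Functor.map_comp, Category.assoc, Category.assoc,
      ← reassoc_of% (unitAt_natural n U (image.ι f) hl ha),
      ← reassoc_of% (unitAt_natural n U (image.ι f) hl ha)]
    exact congrArg _ (this _ hl (factorThruImage f))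
  intro l hl e he
  refine s.hom_ext' _ _ fun B => ?_
  have hB : B.1.unop.len ≤ n := (SimplexCategory.len_le_of_epi B.e).trans hl
  have H' := H ⟨Splitting.IndexSet.mk (e ≫ B.e), hB⟩
  have h1 : summandMap n s m ⟨Splitting.IndexSet.mk (e ≫ B.e), hB⟩ =
      (s.cofan (op l)).inj B ≫ unitAt n U l hl ≫ (L n U).map e.op := by
    have h2 := reassoc_of% (unitAt_natural n U B.e hl hB)
    refine Eq.trans ?_ (Category.assoc (s.ι B.1.unop.len) (U.map B.e.op) (unitAt n U l hl ≫ (L n U).map e.op)).symm
    refine Eq.trans ?_ (congrArg (fun t => s.ι B.1.unop.len ≫ t) (h2 ((L n U).map e.op))).symm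
    rw [← Functor.map_comp]
    rfl
  rw [h1] at H'
  exact ((Category.assoc _ _ _).trans (congrArg _ (Category.assoc _ _ _))).symm.trans
    (H'.trans ((Category.assoc _ _ _).trans (congrArg _ (Category.assoc _ _ _))))


include s in
theorem mono_c : Mono ((c n U).app (op m)) := by
  haveI : Finite (Low n m) := inferInstance
  letI : Fintype (Low n m) := Fintype.ofFinite _
  let D : Low n m → A := fun B => s.N B.1.1.unop.len
  let d : ∐ D ⟶ (L n U).obj (op m) := Sigma.desc (summandMap n s m)
  haveI : Epi d := ⟨fun h h' w => summand_ext n s m fun B => by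
    have := congrArg (fun t => Sigma.ι D B ≫ t) w
    simpa [d] using this⟩
  let r : U.obj (op m) ⟶ ∐ D := Cofan.IsColimit.desc (s.isColimit (op m))
    (fun B => if h : B.1.unop.len ≤ n then Sigma.ι D ⟨B, h⟩ else 0)
  have hr : (d ≫ (c n U).app (op m)) ≫ r = 𝟙 _ := Sigma.hom_ext _ _ fun B => by
    rw [Category.assoc, Sigma.ι_desc_assoc, Category.comp_id, reassoc_of% (summandMap_c n s m B)]
    exact (Cofan.IsColimit.fac _ _ _).trans (dif_pos B.2)
  haveI : Mono (d ≫ (c n U).app (op m)) := (SplitMono.mk r hr).mono
  haveI : Mono d := mono_of_mono d ((c n U).app (op m))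
  haveI : IsIso d := isIso_of_mono_of_epi d
  rw [← IsIso.inv_hom_id_assoc d ((c n U).app (op m))]
  infer_instance

end

end Groth.Agent.SkelMono
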